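import Cfsg.Agent.J1Count.Setup

/-!
# Simple groups of order 175560: one involution centralizer of order 120
-/

set_option autoImplicit false
set_option linter.style.haveILetI false

namespace CfsgLib.J1Count

open Subgroup CfsgLib.SylowCheck CfsgLib.Order7920

/-- The numerical facts obtained from the Sylow data. -/
structure Facts (G : Type*) [Group G] : Prop where
  card : Nat.card G = 175560
  n19 : Nat.card {g : G // orderOf g = 19} = 27720
  n11 : Nat.card {g : G // orderOf g = 11} = 15960
  n7 : Nat.card {g : G // orderOf g = 7} = 25080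
  n3 : Nat.card {g : G // orderOf g = 3} = 5852
  big : ∀ p ∈ [19, 11, 7], ∀ g : G, orderOf g = p →
    ¬ 4 ∣ Nat.card (centralizer ({g} : Set G)) ∧ ¬ 3 ∣ Nat.card (centralizer ({g} : Set G))
  c3 : ∀ g : G, orderOf g = 3 → Nat.card (centralizer ({g} : Set G)) = 30
  c5 : ∀ g : G, orderOf g = 5 → Nat.card (centralizer ({g} : Set G)) = 15 ∨
    Nat.card (centralizer ({g} : Set G)) = 30
  s5 : ∀ g : G, orderOf g = 5 → ∀ m, Nat.card (centralizer ({g} : Set G)) = 5 * m →
    11704 * m ≤ Nat.card {h : G // 5 ∣ orderOf h}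
  norm : ∀ g : G, orderOf g = 3 ∨ orderOf g = 5 →
    Nat.card (normalizer ((zpowers g : Subgroup G) : Set G)) = 60

section

variable {G : Type*} [Group G] [Finite G] [IsSimpleGroup G]

theorem not_comm (hG : Nat.card G = 175560) : ¬ IsMulCommutative G := by
  haveI : Fact (Nat.Prime 19) := ⟨by norm_num⟩
  obtain ⟨P⟩ : Nonempty (Sylow 19 G) := inferInstance
  have hP : Nat.card (P : Subgroup G) = 19 :=
    (CfsgLib.SmallSimple.card_sylow_eq P (k := 1) (m := 9240) (by rw [hG]; norm_num) (by norm_num)).trans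
      (pow_one 19)
  exact CfsgLib.SmallSimple.not_comm_of_sylow P (by omega) (by omega)

theorem exists_facts (hG : Nat.card G = 175560) : Facts G := by
  have hnc := not_comm hG
  have hD : ∀ k, k ∣ Nat.card G → k ∈ divs := fun k hk => mem_divs (hG ▸ hk)
  obtain ⟨a, ha, ra, ha1⟩ := exists_real hnc divs hD (p := 19) (by norm_num) (by rw [hG]; norm_num)
    (by rw [hG]; norm_num)
  obtain ⟨b, hb, rb, hb1⟩ := exists_real hnc divs hD (p := 11) (by norm_num) (by rw [hG]; norm_num)
    (by rw [hG]; norm_num)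
  obtain ⟨c, hc, rc, hc1⟩ := exists_real hnc divs hD (p := 7) (by norm_num) (by rw [hG]; norm_num)
    (by rw [hG]; norm_num)
  obtain ⟨d, hd, rd, hd1⟩ := exists_real hnc divs hD (p := 5) (by norm_num) (by rw [hG]; norm_num)
    (by rw [hG]; norm_num)
  obtain ⟨e, he, re, he1⟩ := exists_real hnc divs hD (p := 3) (by norm_num) (by rw [hG]; norm_num)
    (by rw [hG]; norm_num)
  rw [hG] at ha hb hc hd he
  have hboth : ∀ x y : Datum, Real G x → Real G y → x.1 ≠ y.1 → both x y = true := fun x y hx hy h => by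
    rw [both, compat_of_real divs hD hx hy h, compat_of_real divs hD hy hx h.symm]
    rfl
  have h := check_eq
  simp only [check, List.all_eq_true] at h
  have h := h a ha b hb
  rw [hboth a b ra rb (by omega), Bool.not_true, Bool.false_or, List.all_eq_true] at h
  have h := h c hc
  rw [hboth a c ra rc (by omega), hboth b c rb rc (by omega), Bool.and_true, Bool.not_true, Bool.false_or,
    List.all_eq_true] at h
  have h := h d hd
  rw [hboth a d ra rd (by omega), hboth b d rb rd (by omega), hboth c d rc rd (by omega), Bool.and_true,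
    Bool.and_true, Bool.not_true, Bool.false_or, List.all_eq_true] at h
  have h := h e he
  rw [hboth a e ra re (by omega), hboth b e rb re (by omega), hboth c e rc re (by omega),
    hboth d e rd re (by omega)] at h
  have hcnt : counted 175560 [e, d, c, b, a] = false := by
    by_contra hne
    refine false_of_counted (G := G) (acc := [e, d, c, b, a]) ?_ ?_ (by rw [hG]; simpa using hne)
    · intro x hx
      simp only [List.mem_cons, List.not_mem_nil, or_false] at hx
      rcases hx with rfl | rfl | rfl | rfl | rfl <;> assumption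
    · simp [List.pairwise_cons, ha1, hb1, hc1, hd1, he1]
  simp only [hcnt, Bool.and_true, Bool.not_true, Bool.false_or, Bool.or_false, expected,
    Bool.and_eq_true, Bool.or_eq_true, beq_iff_eq, bne_iff_ne, ne_eq] at h
  obtain ⟨⟨⟨⟨⟨⟨⟨⟨⟨⟨⟨⟨ea, eb⟩, ec⟩, ed⟩, ed'⟩, ee⟩, ee'⟩, a4⟩, b4⟩, c4⟩, a3⟩, b3⟩, c3⟩ := h
  refine ⟨hG, ?_, ?_, ?_, ?_, ?_, ?_, ?_, ?_, ?_⟩
  · have := card_orderOf ra; rwa [ha1, ea] at this
  · have := card_orderOf rb; rwa [hb1, eb] at this
  · have := card_orderOf rc; rwa [hc1, ec] at this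
  · have := card_orderOf re; rwa [he1, ee] at this
  · intro p hp g hg
    have key : ∀ x : Datum, Real G x → x.1 = p → x.2.2 % 4 ≠ 0 → x.2.2 % 3 ≠ 0 →
        ¬ 4 ∣ Nat.card (centralizer ({g} : Set G)) ∧ ¬ 3 ∣ Nat.card (centralizer ({g} : Set G)) := by
      intro x hx hx1 h4 h3
      rw [card_centralizer hx (hg.trans hx1.symm), hx1]
      simp only [List.mem_cons, List.not_mem_nil, or_false] at hp
      rcases hp with rfl | rfl | rfl <;> constructor <;> intro h <;> omega
    simp only [List.mem_cons, List.not_mem_nil, or_false] at hp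
    rcases hp with rfl | rfl | rfl
    exacts [key a ra ha1 a4 a3, key b rb hb1 b4 b3, key c rc hc1 c4 c3]
  · intro g hg
    rw [card_centralizer re (hg.trans he1.symm), he1, ee']
  · intro g hg
    rw [card_centralizer rd (hg.trans hd1.symm), hd1]
    rcases ed' with h | h <;> rw [h] <;> simp
  · intro g hg m hm
    rw [card_centralizer rd (hg.trans hd1.symm), hd1] at hm
    have := card_marked rd
    rw [hd1, ed, show d.2.2 = m by omega] at this
    omega
  · rintro g (hg | hg)
    · have := card_normalizer re (hg.trans he1.symm)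
      rw [ee, hG] at this
      omega
    · have := card_normalizer rd (hg.trans hd1.symm)
      rw [ed, hG] at this
      omega

end

variable {G : Type*} [Group G] [Finite G]

theorem Facts.budget (F : Facts G) :
    Nat.card {g : G // orderOf g = 38} + Nat.card {g : G // orderOf g = 22} +
      Nat.card {g : G // orderOf g = 14} + Nat.card {g : G // 5 ∣ orderOf g} +
      Nat.card {g : G // orderOf g = 6} + Nat.card {g : G // orderOf g = 4} +
      Nat.card {g : G // orderOf g = 2} ≤ 100947 := by
  have := partition_le (G := G)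
  rw [F.n19, F.n11, F.n7, F.n3, F.card] at this
  omega

theorem coprime_odd_part {d : ℕ} (h : ∀ p ∈ [3, 5, 7, 11, 19], ¬ p ∣ d) (hd : d ∣ 175560) : d ∣ 8 := by
  refine (Nat.coprime_of_dvd' fun k hk h1 h2 => ?_ : d.Coprime 21945).dvd_of_dvd_mul_right
    (show d ∣ 8 * 21945 from hd)
  rw [show (21945 : ℕ) = 3 * 5 * 7 * 11 * 19 from rfl] at h2
  simp only [hk.dvd_mul] at h2
  rcases h2 with (((h2 | h2) | h2) | h2) | h2 <;>
    · have := (Nat.prime_dvd_prime_iff_eq hk (by norm_num)).1 h2
      exact absurd (this ▸ h1) (h _ (by simp))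

/-- An element of order four forces too many elements of order four. -/
theorem Facts.four (F : Facts G) {g : G} (hg : orderOf g = 4) :
    43890 ≤ Nat.card {h : G // orderOf h = 4} := by
  classical
  set C := centralizer ({g} : Set G)
  have hgC : g ∈ C := mem_centralizer_singleton_iff.2 rfl
  have h4 : 4 ∣ Nat.card C := hg ▸ orderOf_mem_dvd hgC
  have hd : Nat.card C ∣ 175560 := F.card ▸ card_subgroup_dvd_card C
  have h8 : Nat.card C ∣ 8 := by
    refine coprime_odd_part (fun p hp hpd => ?_) hd
    have hpp : p.Prime := by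
      simp only [List.mem_cons, List.not_mem_nil, or_false] at hp
      rcases hp with rfl | rfl | rfl | rfl | rfl <;> norm_num
    haveI := Fact.mk hpp
    obtain ⟨h, hhC, hh⟩ := exists_orderOf_mem hpd
    have hmem : g ∈ centralizer ({h} : Set G) :=
      mem_centralizer_singleton_iff.2 (mem_centralizer_singleton_iff.1 hhC).symm
    have h4' : 4 ∣ Nat.card (centralizer ({h} : Set G)) := hg ▸ orderOf_mem_dvd hmem
    simp only [List.mem_cons, List.not_mem_nil, or_false] at hp
    rcases hp with rfl | rfl | rfl | rfl | rfl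
    · rw [F.c3 h hh] at h4'; norm_num at h4'
    · rcases F.c5 h hh with e | e <;> rw [e] at h4' <;> norm_num at h4'
    all_goals exact (F.big _ (by simp) h hh).1 h4'
  have hi := C.card_mul_index
  rw [F.card] at hi
  have hcases : Nat.card C = 4 ∨ Nat.card C = 8 := by
    have := Nat.le_of_dvd (by norm_num) h8
    interval_cases hk : Nat.card C <;> omega
  rcases hcases with hC | hC
  · have := index_centralizer_le g
    rw [hg, show C.index = 43890 by rw [hC] at hi; omega] at this
    exact this
  -- the element is not conjugate to its inverse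
  haveI : Fact (Nat.Prime 2) := ⟨Nat.prime_two⟩
  have hreal : ∀ n : G, n * g * n⁻¹ ≠ g⁻¹ := by
    intro n hn
    have hn2 : ∀ j : ℕ, n ^ (2 * j) ∈ C := fun j => by
      rw [pow_mul]
      refine pow_mem (mem_centralizer_singleton_iff.2 ?_) j
      have : n * (n * g * n⁻¹) * n⁻¹ = g := by rw [hn, ← conj_inv, hn, inv_inv]
      calc n ^ 2 * g = n * (n * g * n⁻¹) * n⁻¹ * n ^ 2 := by rw [sq]; group
        _ = g * n ^ 2 := by rw [this]
    obtain ⟨k, m, hm, hkm⟩ := Nat.exists_eq_two_pow_mul_odd (orderOf_pos n).ne'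
    obtain ⟨j, rfl⟩ := hm
    set w := n ^ (2 * j + 1)
    have hwg : w * g * w⁻¹ = g⁻¹ := by
      have h1 : Commute (n ^ (2 * j)) g := commute_of_mem (hn2 j)
      calc w * g * w⁻¹ = n ^ (2 * j) * (n * g * n⁻¹) * (n ^ (2 * j))⁻¹ := by
            simp only [w, pow_succ]; group
        _ = g⁻¹ := by rw [hn, h1.inv_right.eq, mul_inv_cancel_right]
    have hw : IsPGroup 2 (zpowers w) := by
      rw [IsPGroup.iff_card]
      obtain ⟨i, -, hi⟩ := (Nat.dvd_prime_pow Nat.prime_two).1 (show orderOf w ∣ 2 ^ k from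
        orderOf_dvd_of_pow_eq_one (by rw [← pow_mul, mul_comm, ← hkm, pow_orderOf_eq_one]))
      exact ⟨i, by rw [Nat.card_zpowers, hi]⟩
    have hwN : zpowers w ≤ normalizer (C : Set G) := by
      rw [zpowers_le, mem_normalizer_iff]
      intro z
      simp only [C, mem_centralizer_singleton_iff]
      have hwg' : w⁻¹ * g * w = g⁻¹ := by
        have := congrArg (fun a => (w⁻¹ * a * w)⁻¹) hwg
        simp only [mul_inv_rev, inv_inv] at this
        simpa [mul_assoc] using this.symm
      constructor
      · intro hz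
        have h1 : Commute z g⁻¹ := (show Commute z g from hz).inv_right
        calc w * z * w⁻¹ * g = w * (z * (w⁻¹ * g * w)) * w⁻¹ := by group
          _ = w * ((w⁻¹ * g * w) * z) * w⁻¹ := by rw [hwg', h1.eq]
          _ = g * (w * z * w⁻¹) := by group
      · intro hz
        have h1 : Commute (w * z * w⁻¹) g⁻¹ := (show Commute (w * z * w⁻¹) g from hz).inv_right
        calc z * g = w⁻¹ * ((w * z * w⁻¹) * (w * g * w⁻¹)) * w := by group
          _ = w⁻¹ * ((w * g * w⁻¹) * (w * z * w⁻¹)) * w := by rw [hwg, h1.eq]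
          _ = g * z := by group
    have hsup : IsPGroup 2 (zpowers w ⊔ C : Subgroup G) :=
      hw.to_sup_of_normal_right' (IsPGroup.of_card (n := 3) (by rw [hC]; norm_num)) hwN
    obtain ⟨i, hi2⟩ := IsPGroup.iff_card.1 hsup
    have hdd : 2 ^ i ∣ 175560 := hi2 ▸ F.card ▸ card_subgroup_dvd_card _
    have hi3 : i ≤ 3 := by
      by_contra h
      exact absurd ((Nat.pow_dvd_pow 2 (by omega : 4 ≤ i)).trans hdd) (by norm_num)
    have heq : C = zpowers w ⊔ C := eq_of_le_of_card_ge le_sup_right (by
      rw [hi2, hC]; exact Nat.pow_le_pow_right (by norm_num) hi3)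
    have hwC : w ∈ C := heq.ge (mem_sup_left (mem_zpowers w))
    have hgg : g = g⁻¹ := by
      have := mem_centralizer_singleton_iff.1 hwC
      rwa [this, mul_inv_cancel_right] at hwg
    have : g ^ 2 = 1 := by rw [sq]; nth_rewrite 2 [hgg]; exact mul_inv_cancel g
    have := orderOf_dvd_of_pow_eq_one this
    rw [hg] at this
    norm_num at this
  let f : Bool × (G ⧸ C) → {h : G // orderOf h = 4} := fun c =>
    ⟨c.2.out * (if c.1 then g else g⁻¹) * c.2.out⁻¹, by
      rw [show ∀ a : G, c.2.out * a * c.2.out⁻¹ = MulAut.conj c.2.out a from fun a => rfl,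
        MulEquiv.orderOf_eq]
      split_ifs <;> simp [hg]⟩
  have hf : Function.Injective f := by
    have same : ∀ a b : G, a * g * a⁻¹ = b * g * b⁻¹ → (a : G ⧸ C) = b := fun a b h => by
      rw [QuotientGroup.eq, mem_centralizer_singleton_iff]
      calc a⁻¹ * b * g = a⁻¹ * (b * g * b⁻¹) * b := by group
        _ = a⁻¹ * (a * g * a⁻¹) * b := by rw [h]
        _ = g * (a⁻¹ * b) := by group
    have mixed : ∀ a b : G, a * g * a⁻¹ ≠ b * g⁻¹ * b⁻¹ := fun a b h => hreal (b⁻¹ * a) (by
      calc b⁻¹ * a * g * (b⁻¹ * a)⁻¹ = b⁻¹ * (a * g * a⁻¹) * b := by group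
        _ = b⁻¹ * (b * g⁻¹ * b⁻¹) * b := by rw [h]
        _ = g⁻¹ := by group)
    rintro ⟨_ | _, a⟩ ⟨_ | _, b⟩ hab <;> have h := congrArg Subtype.val hab <;>
      simp only [f, Bool.false_eq_true, if_false, if_true] at h
    · have h' : a.out * g * a.out⁻¹ = b.out * g * b.out⁻¹ := by
        have := congrArg (·⁻¹) h
        simpa [mul_assoc] using this
      rw [← QuotientGroup.out_eq' a, ← QuotientGroup.out_eq' b, same _ _ h']
    · exact absurd h.symm (mixed _ _)
    · exact absurd h (mixed _ _)
    · rw [← QuotientGroup.out_eq' a, ← QuotientGroup.out_eq' b, same _ _ h]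
  have := Nat.card_le_card_of_injective f hf
  rw [Nat.card_prod, ← index_eq_card, Nat.card_eq_fintype_card, Fintype.card_bool] at this
  rw [hC] at hi
  omega

/-- Commuting involutions attached to elements of order three give elements of order six. -/
theorem card_six {k : ℕ}
    (h : ∀ g : G, orderOf g = 3 → k ≤ Nat.card {w : G // orderOf w = 2 ∧ Commute g w}) :
    Nat.card {g : G // orderOf g = 3} * k ≤ Nat.card {g : G // orderOf g = 6} := by
  classical
  haveI := Fintype.ofFinite {g : G // orderOf g = 3}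
  let f : (Σ g : {g : G // orderOf g = 3}, {w : G // orderOf w = 2 ∧ Commute g.1 w}) →
      {g : G // orderOf g = 6} := fun a => ⟨a.1.1 * a.2.1, by
    rw [a.2.2.2.orderOf_mul_eq_mul_orderOf_of_coprime (by rw [a.1.2, a.2.2.1]; norm_num), a.1.2, a.2.2.1]⟩
  have hf : Function.Injective f := by
    have key : ∀ g w : G, orderOf g = 3 → orderOf w = 2 → Commute g w →
        (g * w) ^ 4 = g ∧ (g * w) ^ 3 = w := by
      intro g w hg hw hc
      have hg3 : g ^ 3 = 1 := hg ▸ pow_orderOf_eq_one g
      have hw2 : w ^ 2 = 1 := hw ▸ pow_orderOf_eq_one w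
      constructor
      · rw [hc.mul_pow, pow_succ g 3, hg3, one_mul, show w ^ 4 = (w ^ 2) ^ 2 from pow_mul w 2 2, hw2,
          one_pow, mul_one]
      · rw [hc.mul_pow, hg3, one_mul, pow_succ, hw2, one_mul]
    rintro ⟨⟨g, hg⟩, ⟨w, hw, hc⟩⟩ ⟨⟨g', hg'⟩, ⟨w', hw', hc'⟩⟩ hab
    have h : g * w = g' * w' := congrArg Subtype.val hab
    obtain ⟨h1, h2⟩ := key g w hg hw hc
    obtain ⟨h1', h2'⟩ := key g' w' hg' hw' hc'
    obtain rfl : g = g' := by rw [← h1, h, h1']
    obtain rfl : w = w' := by rw [← h2, h, h2']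
    rfl
  refine le_trans ?_ (Nat.card_le_card_of_injective f hf)
  rw [Nat.card_sigma, Nat.card_eq_fintype_card, ← Finset.card_univ, ← smul_eq_mul, ← Finset.sum_const]
  exact Finset.sum_le_sum fun g _ => h g.1 g.2

/-- An involution in every centralizer of an element of order `p` gives elements of order `2p`. -/
theorem card_double {p : ℕ} (hp : Odd p)
    (h : ∀ g : G, orderOf g = p → 2 ∣ Nat.card (centralizer ({g} : Set G))) :
    Nat.card {g : G // orderOf g = p} ≤ Nat.card {g : G // orderOf g = 2 * p} := by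
  classical
  haveI : Fact (Nat.Prime 2) := ⟨Nat.prime_two⟩
  choose w hwC hw using fun g : {g : G // orderOf g = p} => exists_orderOf_mem (h g.1 g.2)
  refine Nat.card_le_card_of_injective (fun g => (⟨g.1 * w g, ?_⟩ : {g : G // orderOf g = 2 * p})) ?_
  · rw [(commute_of_mem (hwC g)).symm.orderOf_mul_eq_mul_orderOf_of_coprime
      (by rw [g.2, hw]; exact Nat.coprime_two_right.2 hp), g.2, hw, mul_comm]
  · intro a b hab
    have h : a.1 * w a = b.1 * w b := congrArg Subtype.val hab
    have key : ∀ g, (g.1 * w g) ^ (p + 1) = g.1 := fun g => by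
      obtain ⟨i, hi⟩ := hp.add_one
      rw [(commute_of_mem (hwC g)).symm.mul_pow, pow_succ g.1 p,
        show g.1 ^ p = 1 from (congrArg (g.1 ^ ·) g.2.symm).trans (pow_orderOf_eq_one g.1), one_mul,
        show p + 1 = 2 * i by omega, pow_mul,
        show w g ^ 2 = 1 from (congrArg (w g ^ ·) (hw g).symm).trans (pow_orderOf_eq_one _), one_pow,
        mul_one]
    exact Subtype.ext (by rw [← key a, h, key b])

/-- Without elements of order four, involutions are central in Sylow 2-subgroups. -/
theorem Facts.central (F : Facts G) (h4 : ∀ g : G, orderOf g ≠ 4) {v : G} (hv : orderOf v = 2) :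
    ∃ R : Sylow 2 G, v ∈ R ∧ (∀ x ∈ R, x * v = v * x) ∧ Nat.card (R : Subgroup G) = 8 ∧
      ∀ x ∈ R, x * x = 1 := by
  haveI : Fact (Nat.Prime 2) := ⟨Nat.prime_two⟩
  obtain ⟨R, hR⟩ := (IsPGroup.of_card (n := 1) (G := zpowers v)
    (by rw [Nat.card_zpowers, hv, pow_one])).exists_le_sylow
  have hR8 : Nat.card (R : Subgroup G) = 8 :=
    (CfsgLib.SmallSimple.card_sylow_eq R (k := 3) (m := 21945) (by rw [F.card]; norm_num)
      (by norm_num)).trans (by norm_num)
  have hsq : ∀ x ∈ (R : Subgroup G), x * x = 1 := by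
    intro x hx
    have hd : orderOf x ∣ 2 ^ 3 := by
      have := orderOf_mem_dvd hx
      rwa [hR8] at this
    obtain ⟨i, hi, hxi⟩ := (Nat.dvd_prime_pow Nat.prime_two).1 hd
    have hi1 : i ≤ 1 := by
      by_contra hgt
      refine h4 (x ^ (2 ^ (i - 2))) ?_
      rw [orderOf_pow' x (by positivity), hxi,
        Nat.gcd_eq_right (Nat.pow_dvd_pow 2 (by omega : i - 2 ≤ i)),
        Nat.pow_div (by omega) (by norm_num), show i - (i - 2) = 2 by omega]
    rw [← sq, ← orderOf_dvd_iff_pow_eq_one, hxi]
    exact Nat.pow_dvd_pow 2 hi1 |>.trans (by norm_num)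
  refine ⟨R, hR (mem_zpowers v), fun x hx => ?_, hR8, hsq⟩
  have hvR : v ∈ (R : Subgroup G) := hR (mem_zpowers v)
  have h := hsq _ (mul_mem hx hvR)
  calc x * v = (x * v)⁻¹ := eq_inv_of_mul_eq_one_left h
    _ = v⁻¹ * x⁻¹ := mul_inv_rev x v
    _ = v * x := by
      rw [inv_eq_of_mul_eq_one_right (hsq x hx), inv_eq_of_mul_eq_one_right (hsq v hvR)]

/-- A cyclic centralizer of order thirty puts the normalizer into the centralizer of its involution. -/
theorem normalizer_le_centralizer {y z v : G} {p : ℕ} [Fact p.Prime] (hy : orderOf y = p)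
    (hz : orderOf z = 30) (hzy : Commute z y) (hC : Nat.card (centralizer ({y} : Set G)) = 30)
    (hv : orderOf v = 2) (hvy : Commute v y) :
    normalizer ((zpowers y : Subgroup G) : Set G) ≤ centralizer ({v} : Set G) := by
  classical
  have hCz : zpowers z = centralizer ({y} : Set G) :=
    eq_of_le_of_card_ge (zpowers_le.2 (mem_centralizer_singleton_iff.2 hzy.eq))
      (by rw [Nat.card_zpowers, hz, hC])
  have huniq : ∀ w ∈ centralizer ({y} : Set G), orderOf w = 2 → w = z ^ 15 := by
    intro w hw hw2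
    rw [← hCz, mem_zpowers_iff_mem_range_orderOf, Finset.mem_image] at hw
    obtain ⟨i, hi, rfl⟩ := hw
    rw [Finset.mem_range, hz] at hi
    have h2 := pow_orderOf_eq_one (z ^ i)
    rw [hw2, ← pow_mul, ← orderOf_dvd_iff_pow_eq_one, hz] at h2
    have : i = 0 ∨ i = 15 := by omega
    rcases this with rfl | rfl
    · rw [pow_zero, orderOf_one] at hw2; norm_num at hw2
    · rfl
  intro n hn
  rw [mem_centralizer_singleton_iff]
  have hmem : n * v * n⁻¹ ∈ centralizer ({y} : Set G) := by
    have h1 := conj_mem_zpowers hn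
    have hz2 : zpowers (n * y * n⁻¹) = zpowers y :=
      CfsgLib.FixedPoints.zpowers_eq_of_mem hy (((MulAut.conj n).orderOf_eq y).trans hy) h1
    have hc : Commute (n * v * n⁻¹) (n * y * n⁻¹) := hvy.map (MulAut.conj n)
    rw [← centralizer_zpowers, ← hz2, centralizer_zpowers]
    exact mem_centralizer_singleton_iff.2 hc.eq
  have h := huniq _ hmem (((MulAut.conj n).orderOf_eq v).trans hv)
  rw [← huniq v (mem_centralizer_singleton_iff.2 hvy.eq) hv] at h
  exact mul_inv_eq_iff_eq_mul.1 h

variable [IsSimpleGroup G]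

/-- No commuting elements of orders three, five and two. -/
theorem Facts.no_thirty (F : Facts G) {y x v : G} (hy : orderOf y = 3) (hx : orderOf x = 5)
    (hv : orderOf v = 2) (hyx : Commute y x) (hyv : Commute y v) (hxv : Commute x v) : False := by
  haveI : Fact (Nat.Prime 3) := ⟨by norm_num⟩
  haveI : Fact (Nat.Prime 5) := ⟨by norm_num⟩
  haveI : Fact (Nat.Prime 2) := ⟨Nat.prime_two⟩
  set z := y * x * v
  have hyxv : Commute (y * x) v := hyv.mul_left hxv
  have hyx15 : orderOf (y * x) = 15 := by
    rw [hyx.orderOf_mul_eq_mul_orderOf_of_coprime (by rw [hy, hx]; norm_num), hy, hx]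
  have hz : orderOf z = 30 := by
    rw [hyxv.orderOf_mul_eq_mul_orderOf_of_coprime (by rw [hyx15, hv]; norm_num), hyx15, hv]
  have hzy : Commute z y := ((Commute.refl y).mul_left hyx.symm).mul_left hyv.symm
  have hzx : Commute z x := (hyx.mul_left (Commute.refl x)).mul_left hxv.symm
  have hzv : Commute z v := hyxv.mul_left (Commute.refl v)
  have h30x : 30 ∣ Nat.card (centralizer ({x} : Set G)) :=
    hz ▸ orderOf_mem_dvd (mem_centralizer_singleton_iff.2 hzx.eq)
  have hCx : Nat.card (centralizer ({x} : Set G)) = 30 := by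
    rcases F.c5 x hx with h | h
    · rw [h] at h30x; norm_num at h30x
    · exact h
  have h5 := F.s5 x hx 6 (by rw [hCx])
  have h6 := card_six (G := G) (k := 1) fun g hg => by
    obtain ⟨w, hwC, hw⟩ := exists_orderOf_mem (p := 2) (H := centralizer ({g} : Set G))
      (by rw [F.c3 g hg]; norm_num)
    haveI : Nonempty {w : G // orderOf w = 2 ∧ Commute g w} :=
      ⟨⟨w, hw, (commute_of_mem hwC).symm⟩⟩
    exact Nat.card_pos
  rw [F.n3] at h6
  have hb := F.budget
  have h4 : ∀ g : G, orderOf g ≠ 4 := fun g hg => by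
    have := F.four hg
    omega
  obtain ⟨R, -, hRv, hR8, -⟩ := F.central h4 hv
  set H := centralizer ({v} : Set G)
  have hRH : (R : Subgroup G) ≤ H := fun w hw => mem_centralizer_singleton_iff.2 (hRv w hw)
  have h120 : 120 ∣ Nat.card H := by
    have h1 : 8 ∣ Nat.card H := hR8 ▸ card_dvd_of_le hRH
    have h2 : 30 ∣ Nat.card H := hz ▸ orderOf_mem_dvd (mem_centralizer_singleton_iff.2 hzv.eq)
    exact Nat.lcm_dvd h1 h2
  have hNy := normalizer_le_centralizer hy hz hzy (F.c3 y hy) hv hyv.symm
  have hNx := normalizer_le_centralizer hx hz hzx hCx hv hxv.symm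
  obtain ⟨k, hk3, hk⟩ := CfsgLib.FixedPoints.exists_count (by rw [F.card]; norm_num) hy
    (hNy (le_normalizer (mem_zpowers y)) : y ∈ H)
  obtain ⟨k', hk5, hk'⟩ := CfsgLib.FixedPoints.exists_count (by rw [F.card]; norm_num) hx
    (hNx (le_normalizer (mem_zpowers x)) : x ∈ H)
  rw [inf_of_le_left hNy, F.norm y (Or.inl hy)] at hk
  rw [inf_of_le_left hNx, F.norm x (Or.inr hx)] at hk'
  obtain rfl : k = k' := by omega
  have hd : k * 60 ∣ 175560 := hk ▸ F.card ▸ card_subgroup_dvd_card H
  have hlist : ∀ k ∈ divs, k * 60 ∣ 175560 → k % 15 = 1 → 2 ∣ k → k = 2926 := by decide +kernel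
  obtain rfl := hlist k (mem_divs ((dvd_mul_right k 60).trans hd)) hd (by omega) (by
    rw [hk] at h120; omega)
  have htop : H = ⊤ := eq_top_of_card_eq H (by rw [hk, F.card])
  have hvZ : v ∈ center G := mem_center_iff.2 fun g =>
    mem_centralizer_singleton_iff.1 (show g ∈ H from htop ▸ mem_top g)
  rcases IsSimpleGroup.eq_bot_or_eq_top_of_normal (center G) inferInstance with h | h
  · rw [h, mem_bot] at hvZ
    rw [hvZ, orderOf_one] at hv
    norm_num at hv
  · exact not_comm F.card ⟨⟨fun a b => mem_center_iff.1 (show b ∈ center G from h ▸ mem_top b) a⟩⟩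

/-- An involution with a centralizer of order 120, central in an elementary Sylow 2-subgroup. -/
theorem Facts.exists_invol (F : Facts G) :
    ∃ v : G, orderOf v = 2 ∧ Nat.card (centralizer ({v} : Set G)) = 120 ∧
      ∃ R : Sylow 2 G, v ∈ R ∧ (∀ x ∈ R, x * v = v * x) ∧ Nat.card (R : Subgroup G) = 8 ∧
        ∀ x ∈ R, x * x = 1 := by
  classical
  haveI : Fact (Nat.Prime 2) := ⟨Nat.prime_two⟩
  haveI : Fact (Nat.Prime 3) := ⟨by norm_num⟩
  haveI : Fact (Nat.Prime 5) := ⟨by norm_num⟩
  have hfive : ∀ y : G, orderOf y = 3 → 5 ≤ Nat.card {w : G // orderOf w = 2 ∧ Commute y w} := by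
    intro y hy
    obtain ⟨x, hxC, hx⟩ := exists_orderOf_mem (p := 5) (H := centralizer ({y} : Set G))
      (by rw [F.c3 y hy]; norm_num)
    obtain ⟨v, hvC, hv⟩ := exists_orderOf_mem (p := 2) (H := centralizer ({y} : Set G))
      (by rw [F.c3 y hy]; norm_num)
    have hyx : Commute y x := (commute_of_mem hxC).symm
    have hyv : Commute y v := (commute_of_mem hvC).symm
    let f : Fin 5 → {w : G // orderOf w = 2 ∧ Commute y w} := fun i =>
      ⟨x ^ (i : ℕ) * v * (x ^ (i : ℕ))⁻¹, ((MulAut.conj (x ^ (i : ℕ))).orderOf_eq v).trans hv,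
        ((hyx.pow_right _).mul_right hyv).mul_right (hyx.pow_right _).inv_right⟩
    have key : ∀ i j : Fin 5, i < j → f i ≠ f j := by
      intro i j hij hf
      have h : x ^ (i : ℕ) * v * (x ^ (i : ℕ))⁻¹ = x ^ (j : ℕ) * v * (x ^ (j : ℕ))⁻¹ :=
        congrArg Subtype.val hf
      obtain ⟨d, hd⟩ := Nat.exists_eq_add_of_le hij.le
      have hc : Commute (x ^ d) v := by
        rw [hd, pow_add] at h
        have h' : v = x ^ d * v * (x ^ d)⁻¹ := by
          have := congrArg (fun a => (x ^ (i : ℕ))⁻¹ * a * x ^ (i : ℕ)) h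
          simpa [mul_assoc] using this
        exact (eq_mul_inv_iff_mul_eq.1 h').symm
      have hd5 : ¬ 5 ∣ d := by
        have := j.2
        have : (i : ℕ) < j := hij
        omega
      have hord : orderOf (x ^ d) = 5 := by
        rw [orderOf_pow, hx, Nat.Coprime.gcd_eq_one ((Nat.Prime.coprime_iff_not_dvd (by norm_num)).2 hd5),
          Nat.div_one]
      obtain ⟨e, he⟩ : x ∈ zpowers (x ^ d) :=
        (CfsgLib.FixedPoints.zpowers_eq_of_mem hx hord (pow_mem (mem_zpowers x) d)).ge (mem_zpowers x)
      exact F.no_thirty hy hx hv hyx hyv (he ▸ hc.zpow_left e)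
    have hf : Function.Injective f := fun i j hij => by
      rcases lt_trichotomy i j with h | h | h
      exacts [absurd hij (key i j h), h, absurd hij.symm (key j i h)]
    simpa using Nat.card_le_card_of_injective f hf
  have h6 := card_six hfive
  rw [F.n3] at h6
  have hb := F.budget
  obtain ⟨x, hx⟩ := exists_prime_orderOf_dvd_card' (G := G) 5 (by rw [F.card]; norm_num)
  have hCx : Nat.card (centralizer ({x} : Set G)) = 30 := by
    rcases F.c5 x hx with h15 | h
    swap
    · exact h
    exfalso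
    have h5 := F.s5 x hx 3 (by rw [h15])
    have h4 : ∀ g : G, orderOf g ≠ 4 := fun g hg => by
      have := F.four hg
      omega
    set N := normalizer ((zpowers x : Subgroup G) : Set G)
    obtain ⟨V, hV⟩ := Sylow.exists_subgroup_card_pow_prime 2 (n := 2) (G := N)
      (by rw [F.norm x (Or.inr hx)]; norm_num)
    have hinv : ∀ u : V, u ≠ 1 → ((u : N) : G) * x * ((u : N) : G)⁻¹ = x⁻¹ := by
      intro u hu
      set w : G := ((u : N) : G)
      have hwo : orderOf w = 2 := by
        have hd : orderOf w ∣ 2 ^ 2 := by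
          rw [Subgroup.orderOf_coe, Subgroup.orderOf_coe, ← hV]
          exact _root_.orderOf_dvd_natCard u
        obtain ⟨i, hi, hwi⟩ := (Nat.dvd_prime_pow Nat.prime_two).1 hd
        interval_cases i
        · rw [pow_zero, orderOf_eq_one_iff] at hwi
          exact absurd (Subtype.ext (Subtype.ext hwi)) hu
        · simpa using hwi
        · exact absurd (by simpa using hwi) (h4 w)
      have hw2 : w * w = 1 := by rw [← sq, ← hwo, pow_orderOf_eq_one]
      obtain ⟨i, hi, hix⟩ := Finset.mem_image.1
        ((mem_zpowers_iff_mem_range_orderOf).1 (conj_mem_zpowers (u : N).2))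
      rw [Finset.mem_range, hx] at hi
      have hix : x ^ i = w * x * w⁻¹ := hix
      have hsq : x ^ (i * i) = x ^ 1 := by
        calc x ^ (i * i) = (w * x * w⁻¹) ^ i := by rw [← hix, pow_mul]
          _ = w * x ^ i * w⁻¹ := conj_pow
          _ = (w * w) * x * (w * w)⁻¹ := by rw [hix]; group
          _ = x ^ 1 := by rw [hw2]; group
      rw [pow_inj_mod, hx] at hsq
      have : i = 1 ∨ i = 4 := by interval_cases i <;> omega
      rcases this with rfl | rfl
      · exfalso
        rw [pow_one] at hix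
        have hmem : w ∈ centralizer ({x} : Set G) :=
          mem_centralizer_singleton_iff.2 (mul_inv_eq_iff_eq_mul.1 hix.symm)
        have := orderOf_mem_dvd hmem
        rw [hwo, h15] at this
        norm_num at this
      · rw [← hix, eq_inv_iff_mul_eq_one, ← pow_succ, show 4 + 1 = orderOf x by omega,
          pow_orderOf_eq_one]
    haveI : Finite V := inferInstance
    obtain ⟨u, hu⟩ : ∃ u : V, u ≠ 1 :=
      @exists_ne V (Finite.one_lt_card_iff_nontrivial.1 (by omega)) 1
    obtain ⟨w, hw1, hwu⟩ : ∃ w : V, w ≠ 1 ∧ w ≠ u := by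
      haveI := Fintype.ofFinite V
      have : 2 < (Finset.univ : Finset V).card := by
        rw [Finset.card_univ, ← Nat.card_eq_fintype_card, hV]; norm_num
      obtain ⟨a, -, b, -, c, -, hab, hac, hbc⟩ := Finset.two_lt_card.1 this
      by_contra hno
      push Not at hno
      by_cases ha : a = 1
      · exact hbc ((hno b (fun h => hab (ha.trans h.symm))).trans (hno c fun h => hac (ha.trans h.symm)).symm)
      · by_cases hb' : b = 1
        · exact hac ((hno a ha).trans (hno c fun h => hbc (hb'.trans h.symm)).symm)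
        · exact hab ((hno a ha).trans (hno b hb').symm)
    have hprod := hinv (u⁻¹ * w) fun h => hwu (inv_mul_eq_one.1 h).symm
    simp only [Subgroup.coe_mul, Subgroup.coe_inv] at hprod
    have h1 := hinv u hu
    have h2 := hinv w hw1
    have hfix : x⁻¹ = x := by
      calc x⁻¹ = (((u : N) : G))⁻¹ * (((w : N) : G) * x * ((w : N) : G)⁻¹) * ((u : N) : G) := by
            rw [← hprod]; group
        _ = (((u : N) : G))⁻¹ * (((u : N) : G) * x * ((u : N) : G)⁻¹) * ((u : N) : G) := by rw [h2, h1]
        _ = x := by group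
    have : x ^ 2 = 1 := by rw [sq]; nth_rewrite 1 [← hfix]; exact inv_mul_cancel x
    have := orderOf_dvd_of_pow_eq_one this
    rw [hx] at this
    norm_num at this
  have h5 := F.s5 x hx 6 (by rw [hCx])
  have h4 : ∀ g : G, orderOf g ≠ 4 := fun g hg => by
    have := F.four hg
    omega
  obtain ⟨y, hy⟩ := exists_prime_orderOf_dvd_card' (G := G) 3 (by rw [F.card]; norm_num)
  obtain ⟨v, -, hv⟩ := exists_orderOf_mem (p := 2) (H := centralizer ({y} : Set G))
    (by rw [F.c3 y hy]; norm_num)
  refine ⟨v, hv, ?_, F.central h4 hv⟩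
  set H := centralizer ({v} : Set G)
  have hidx : H.index ≤ 1463 := by
    have h : H.index ≤ _ := index_centralizer_le v
    rw [hv] at h
    omega
  have hodd : ∀ p ∈ [19, 11, 7], ¬ p ∣ Nat.card H := by
    intro p hp hpd
    have hpp : p.Prime := by
      simp only [List.mem_cons, List.not_mem_nil, or_false] at hp
      rcases hp with rfl | rfl | rfl <;> norm_num
    haveI := Fact.mk hpp
    obtain ⟨h, hhH, hh⟩ := exists_orderOf_mem hpd
    have hsq : ¬ p ^ 2 ∣ Nat.card G := by
      simp only [List.mem_cons, List.not_mem_nil, or_false] at hp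
      rcases hp with rfl | rfl | rfl <;> rw [F.card] <;> norm_num
    have hev : ∀ g : G, orderOf g = p → 2 ∣ Nat.card (centralizer ({g} : Set G)) := by
      intro g hg
      obtain ⟨a, ha⟩ := CfsgLib.FixedPoints.sylow_conj hsq hg hh
      have hz2 := CfsgLib.FixedPoints.zpowers_eq_of_mem hg (((MulAut.conj a).orderOf_eq h).trans hh) ha
      have hc : Commute (a * v * a⁻¹) (a * h * a⁻¹) :=
        ((commute_of_mem hhH).symm).map (MulAut.conj a)
      have hmem : a * v * a⁻¹ ∈ centralizer ({g} : Set G) := by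
        rw [← centralizer_zpowers, ← hz2, centralizer_zpowers]
        exact mem_centralizer_singleton_iff.2 hc.eq
      have := orderOf_mem_dvd hmem
      rwa [show a * v * a⁻¹ = MulAut.conj a v from rfl, MulEquiv.orderOf_eq, hv] at this
    have hoddp : Odd p := by
      simp only [List.mem_cons, List.not_mem_nil, or_false] at hp
      rcases hp with rfl | rfl | rfl <;> decide
    have := card_double hoddp hev
    simp only [List.mem_cons, List.not_mem_nil, or_false] at hp
    rcases hp with rfl | rfl | rfl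
    · rw [F.n19, show 2 * 19 = 38 from rfl] at this; omega
    · rw [F.n11, show 2 * 11 = 22 from rfl] at this; omega
    · rw [F.n7, show 2 * 7 = 14 from rfl] at this; omega
  have hmul := H.card_mul_index
  rw [F.card] at hmul
  have hd : Nat.card H ∣ 120 := by
    refine (Nat.coprime_of_dvd' fun k hk h1 h2 => ?_ : (Nat.card H).Coprime 1463).dvd_of_dvd_mul_right
      (show Nat.card H ∣ 120 * 1463 from ⟨H.index, hmul.symm⟩)
    rw [show (1463 : ℕ) = 19 * 11 * 7 from rfl] at h2
    simp only [hk.dvd_mul] at h2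
    rcases h2 with (h2 | h2) | h2 <;>
      · have := (Nat.prime_dvd_prime_iff_eq hk (by norm_num)).1 h2
        exact absurd (this ▸ h1) (hodd _ (by simp))
  have hle := Nat.le_of_dvd (by norm_num) hd
  nlinarith

end CfsgLib.J1Count
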