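import Cfsg.Agent.J1Count.Local
import Cfsg.Agent.Dickson.OrderSixty
import Cfsg.Prelude

/-!
# Simple groups of order 175560 have an involution centralizer `C₂ × A₅`
-/

set_option autoImplicit false
set_option linter.style.haveILetI false

namespace CfsgLib.J1Count

open Subgroup CfsgLib.Order7920

/-- A group of order 120 with a central involution lying in an elementary Sylow 2-subgroup and with
non-normal Sylow 5-subgroups. -/
theorem iso_two_alt_five {H : Type*} [Group H] [Finite H] (hH : Nat.card H = 120) {v : H}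
    (hv : orderOf v = 2) (hvc : v ∈ center H) (R : Sylow 2 H) (hR : ∀ x ∈ R, x * x = 1)
    (hvR : v ∈ R) {x : H} (hx : orderOf x = 5)
    (hN : normalizer ((zpowers x : Subgroup H) : Set H) ≠ ⊤) :
    Nonempty (H ≃* Multiplicative (ZMod 2) × alternatingGroup (Fin 5)) := by
  classical
  haveI : Fact (Nat.Prime 2) := ⟨Nat.prime_two⟩
  haveI : Fact (Nat.Prime 5) := ⟨by norm_num⟩
  haveI hVn : (zpowers v).Normal := ⟨fun a ha g => by
    obtain ⟨i, rfl⟩ := ha
    exact ⟨i, show v ^ i = g * v ^ i * g⁻¹ by
      rw [(Commute.zpow_right (show Commute g v from mem_center_iff.1 hvc g) i).eq, mul_inv_cancel_right]⟩⟩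
  -- the quotient by the central involution
  set π := QuotientGroup.mk' (zpowers v)
  have hQ : Nat.card (H ⧸ zpowers v) = 60 := by
    have h := (zpowers v).card_mul_index
    rw [Nat.card_zpowers, hv, hH, Subgroup.index_eq_card] at h
    omega
  obtain ⟨e⟩ : Nonempty (H ⧸ zpowers v ≃* alternatingGroup (Fin 5)) := by
    obtain ⟨P⟩ : Nonempty (Sylow 5 (H ⧸ zpowers v)) := inferInstance
    refine CfsgLib.Dickson.OrderSixty.nonempty_mulEquiv hQ P fun hPn => hN ?_
    set M := (P : Subgroup (H ⧸ zpowers v)).comap π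
    have hPc : Nat.card (P : Subgroup (H ⧸ zpowers v)) = 5 :=
      CfsgLib.Dickson.OrderSixty.card_eq_five hQ P
    have hMc : Nat.card M = 10 := by
      have h1 : M.index = (P : Subgroup (H ⧸ zpowers v)).index :=
        index_comap_of_surjective _ (QuotientGroup.mk'_surjective _)
      have h2 := M.card_mul_index
      have h3 := (P : Subgroup (H ⧸ zpowers v)).card_mul_index
      rw [hPc, hQ] at h3
      rw [h1, hH] at h2
      have h4 : (P : Subgroup (H ⧸ zpowers v)).index = 12 := by omega
      rw [h4] at h2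
      omega
    haveI : M.Normal := hPn.comap π
    -- all elements of order five lie in `M`, and they form one cyclic group
    have hmem : ∀ w : H, orderOf w = 5 → w ∈ M := by
      intro w hw
      show π w ∈ (P : Subgroup (H ⧸ zpowers v))
      refine CfsgLib.SmallSimple.mem_sylow_of_smul_eq (n := 1) ?_ P ?_
      · rw [pow_one, ← map_pow, ← hw, pow_orderOf_eq_one, map_one]
      · exact Sylow.smul_eq_iff_mem_normalizer.2 (by
          have h := normalizer_eq_top_iff.2 hPn
          exact h.symm ▸ mem_top _)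
    have hsq : ¬ 5 ^ 2 ∣ Nat.card M := by rw [hMc]; norm_num
    refine eq_top_iff.2 fun g _ => mem_normalizer_zpowers ?_
    have h1 : orderOf (g * x * g⁻¹) = 5 := ((MulAut.conj g).orderOf_eq x).trans hx
    let xM : M := ⟨x, hmem x hx⟩
    let yM : M := ⟨g * x * g⁻¹, hmem _ h1⟩
    have hxM : orderOf xM = 5 := (Subgroup.orderOf_mk ..).trans hx
    obtain ⟨S⟩ : Nonempty (Sylow 5 M) := inferInstance
    have hS : Nat.card (S : Subgroup M) = 5 :=
      (CfsgLib.SmallSimple.card_sylow_eq S (k := 1) (m := 2) (by rw [hMc]; norm_num) (by norm_num)).trans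
        (pow_one 5)
    have hn1 : Nat.card (Sylow 5 M) = 1 := by
      have h2 := S.card_dvd_index
      have h3 := (S : Subgroup M).card_mul_index
      rw [hS, hMc] at h3
      rw [show (S : Subgroup M).index = 2 by omega] at h2
      have := card_sylow_modEq_one 5 M
      have h4 := Nat.le_of_dvd (by norm_num) h2
      rcases (Nat.dvd_prime Nat.prime_two).1 h2 with h | h
      · exact h
      · rw [h] at this; exact absurd this (by decide)
    haveI : Subsingleton (Sylow 5 M) := (Nat.card_eq_one_iff_unique.mp hn1).1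
    obtain ⟨a, ha⟩ := CfsgLib.FixedPoints.sylow_conj hsq hxM ((Subgroup.orderOf_mk ..).trans h1 : orderOf yM = 5)
    have hT : (S : Subgroup M) = zpowers xM := by
      refine (eq_of_le_of_card_ge (zpowers_le.2 ?_) (by rw [hS, Nat.card_zpowers, hxM])).symm
      obtain ⟨T, hT⟩ := (IsPGroup.of_card (n := 1) (G := zpowers xM)
        (by rw [Nat.card_zpowers, hxM, pow_one])).exists_le_sylow
      exact Subsingleton.elim T S ▸ hT (mem_zpowers xM)
    haveI : (S : Subgroup M).Normal := Sylow.normal_of_subsingleton S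
    have hy : yM ∈ zpowers xM := by
      rw [← hT] at ha ⊢
      have := (inferInstance : (S : Subgroup M).Normal).conj_mem _ ha a⁻¹
      rwa [show a⁻¹ * (a * yM * a⁻¹) * a⁻¹⁻¹ = yM by group] at this
    obtain ⟨i, hi⟩ := hy
    exact ⟨i, congrArg Subtype.val hi⟩
  -- transfer splits the extension
  have hRc : ∀ a b : (R : Subgroup H), a * b = b * a := fun a b => by
    apply Subtype.ext
    show (a : H) * b = b * a
    have h := hR _ (mul_mem a.2 b.2)
    calc (a : H) * b = ((a : H) * b)⁻¹ := eq_inv_of_mul_eq_one_left h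
      _ = (b : H)⁻¹ * (a : H)⁻¹ := mul_inv_rev _ _
      _ = b * a := by
        rw [inv_eq_of_mul_eq_one_right (hR _ b.2), inv_eq_of_mul_eq_one_right (hR _ a.2)]
  letI : CommGroup (R : Subgroup H) := { (inferInstance : Group (R : Subgroup H)) with mul_comm := hRc }
  set τ : H →* (R : Subgroup H) := MonoidHom.transfer (MonoidHom.id (R : Subgroup H))
  have hkey : ∀ (k : ℕ) (g₀ : H), g₀⁻¹ * v ^ k * g₀ ∈ (R : Subgroup H) → g₀⁻¹ * v ^ k * g₀ = v ^ k :=
    fun k g₀ _ => by
      rw [mul_assoc, ← (Commute.pow_right (show Commute g₀ v from mem_center_iff.1 hvc g₀) k).eq,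
        inv_mul_cancel_left]
  have hτv : ((τ v : (R : Subgroup H)) : H) = v := by
    have h := MonoidHom.transfer_eq_pow (MonoidHom.id (R : Subgroup H)) v hkey
    have hidx : (R : Subgroup H).index = 15 := by
      have h1 := (R : Subgroup H).card_mul_index
      rw [CfsgLib.SmallSimple.card_sylow_eq R (k := 3) (m := 15) (by rw [hH]; norm_num) (by norm_num),
        hH] at h1
      omega
    show ((MonoidHom.transfer (MonoidHom.id (R : Subgroup H)) v : (R : Subgroup H)) : H) = v
    rw [h]
    show v ^ (R : Subgroup H).index = v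
    rw [hidx, show 15 = 2 * 7 + 1 from rfl, pow_succ, pow_mul, ← hv, pow_orderOf_eq_one, one_pow, one_mul]
  set K := τ.ker
  have hKv : ∀ k ∈ K, k ∈ zpowers v → k = 1 := by
    rintro k hk ⟨i, rfl⟩
    have hk' : (((τ v) ^ i : (R : Subgroup H)) : H) = 1 := by
      rw [← map_zpow]
      exact congrArg Subtype.val (MonoidHom.mem_ker.1 hk)
    rwa [Subgroup.coe_zpow, hτv] at hk'
  have hinj : Function.Injective (π.comp K.subtype) := by
    rw [injective_iff_map_eq_one]
    intro k hk
    exact Subtype.ext (hKv _ k.2 ((QuotientGroup.eq_one_iff (k : H)).1 hk))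
  have hK60 : Nat.card K = 60 := by
    have hle : Nat.card K ≤ 60 := hQ ▸ Nat.card_le_card_of_injective _ hinj
    have hmul := K.card_mul_index
    rw [hH, Subgroup.index_ker] at hmul
    have hr : Nat.card τ.range ≤ 8 := by
      refine (Subgroup.card_le_card_group τ.range).trans ?_
      rw [CfsgLib.SmallSimple.card_sylow_eq R (k := 3) (m := 15) (by rw [hH]; norm_num) (by norm_num)]
      norm_num
    have hKne : (π.comp K.subtype).range ≠ ⊥ := fun h => by
      have := Nat.card_congr (MonoidHom.ofInjective hinj).toEquiv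
      rw [h, Subgroup.card_bot] at this
      rw [this] at hmul
      omega
    haveI : Nontrivial (H ⧸ zpowers v) := Finite.one_lt_card_iff_nontrivial.1 (by omega)
    haveI : IsSimpleGroup (H ⧸ zpowers v) :=
      IsSimpleGroup.isSimpleGroup_of_surjective e.symm.toMonoidHom e.symm.surjective
    haveI : (K.map π).Normal := (inferInstance : K.Normal).map π (QuotientGroup.mk'_surjective _)
    have hmap : (π.comp K.subtype).range = K.map π := by rw [MonoidHom.range_comp, range_subtype]
    rcases IsSimpleGroup.eq_bot_or_eq_top_of_normal (K.map π) inferInstance with h | h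
    · exact absurd (hmap.trans h) hKne
    · have := Nat.card_congr (MonoidHom.ofInjective hinj).toEquiv
      rw [hmap, h, card_top, hQ] at this
      exact this
  have hbij : Function.Bijective (π.comp K.subtype) :=
    (Nat.bijective_iff_injective_and_card _).2 ⟨hinj, by rw [hK60, hQ]⟩
  let ι : alternatingGroup (Fin 5) →* H :=
    K.subtype.comp ((MulEquiv.ofBijective _ hbij).trans e).symm.toMonoidHom
  let κ : Multiplicative (ZMod 2) →* H :=
    (zpowers v).subtype.comp (mulEquivOfCyclicCardEq (G := Multiplicative (ZMod 2)) (G' := zpowers v)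
      (by rw [Nat.card_zpowers, hv, Nat.card_eq_fintype_card, Fintype.card_multiplicative, ZMod.card])).toMonoidHom
  have hcomm : ∀ m n, Commute (κ m) (ι n) := fun m n => by
    obtain ⟨i, hi⟩ : κ m ∈ zpowers v := SetLike.coe_mem _
    rw [← hi]
    exact Commute.zpow_left (show Commute v (ι n) from (mem_center_iff.1 hvc (ι n)).symm) i
  let Φ := κ.noncommCoprod ι hcomm
  have hΦ : Function.Injective Φ := by
    rw [injective_iff_map_eq_one]
    rintro ⟨m, n⟩ h
    have h' : κ m * ι n = 1 := h
    have hn : ι n ∈ zpowers v := by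
      rw [(eq_inv_of_mul_eq_one_right h' : ι n = (κ m)⁻¹)]
      exact inv_mem (SetLike.coe_mem _)
    have hn1 : ι n = 1 := hKv _ (SetLike.coe_mem _) hn
    rw [hn1, mul_one] at h'
    exact Prod.ext
      ((injective_iff_map_eq_one κ).1 ((Subgroup.subtype_injective _).comp (MulEquiv.injective _)) m h')
      ((injective_iff_map_eq_one ι).1 ((Subgroup.subtype_injective _).comp (MulEquiv.injective _)) n hn1)
  refine ⟨(MulEquiv.ofBijective Φ ((Nat.bijective_iff_injective_and_card Φ).2 ⟨hΦ, ?_⟩)).symm⟩
  rw [Nat.card_prod, Nat.card_eq_fintype_card (α := Multiplicative (ZMod 2)), Fintype.card_multiplicative,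
    ZMod.card, ← Nat.card_congr e.toEquiv, hQ, hH]

/-- A simple group of order 175560 has a 2-central involution with centralizer `C₂ × A₅`. -/
theorem exists_cent {G : Type*} [Group G] [Finite G] [IsSimpleGroup G] (hG : Nat.card G = 175560) :
    ∃ t : G, Cfsg.IsTwoCentralInvolution t ∧
      Nonempty (↥(centralizer ({t} : Set G)) ≃* Multiplicative (ZMod 2) × alternatingGroup (Fin 5)) := by
  haveI : Fact (Nat.Prime 5) := ⟨by norm_num⟩
  have F := exists_facts hG
  obtain ⟨v, hv, hC, R, hvR, hRv, -, hR2⟩ := F.exists_invol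
  refine ⟨v, ⟨hv, R, hvR, hRv⟩, ?_⟩
  set C := centralizer ({v} : Set G)
  have hRC : (R : Subgroup G) ≤ C := fun x hx => mem_centralizer_singleton_iff.2 (hRv x hx)
  have hvC : v ∈ C := mem_centralizer_singleton_iff.2 rfl
  obtain ⟨x, hxC, hx⟩ := exists_orderOf_mem (p := 5) (H := C) (by rw [hC]; norm_num)
  refine iso_two_alt_five hC (v := ⟨v, hvC⟩) ((Subgroup.orderOf_mk ..).trans hv) ?_ (R.subtype hRC) ?_ ?_
    (x := ⟨x, hxC⟩) ((Subgroup.orderOf_mk ..).trans hx) ?_
  · exact mem_center_iff.2 fun g => Subtype.ext (mem_centralizer_singleton_iff.1 g.2)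
  · intro a ha
    exact Subtype.ext (hR2 _ ha)
  · exact hvR
  · intro htop
    have hle : C ≤ normalizer ((zpowers x : Subgroup G) : Set G) := fun g hg => by
      have hmem : (⟨g, hg⟩ : C) ∈ normalizer ((zpowers (⟨x, hxC⟩ : C) : Subgroup C) : Set C) :=
        htop ▸ mem_top _
      obtain ⟨i, hi⟩ := conj_mem_zpowers hmem
      exact mem_normalizer_zpowers ⟨i, congrArg Subtype.val hi⟩
    have := Nat.le_of_dvd Nat.card_pos (card_dvd_of_le hle)
    rw [hC, F.norm x (Or.inr hx)] at this
    omega

end CfsgLib.J1Count
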