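import Cfsg.Agent.SmallSimple.SylowCheck
import Cfsg.Agent.SmallSimple.Order7920Tools

/-!
# Simple groups of order 175560: Sylow data and a partition of the elements by order
-/

set_option autoImplicit false
set_option linter.style.haveILetI false

namespace CfsgLib.J1Count

open Subgroup CfsgLib.SylowCheck

/-- The divisors of `175560`. -/
def divs : List ℕ :=
  [1, 2, 4, 8].flatMap fun a => [1, 3].flatMap fun b => [1, 5].flatMap fun c => [1, 7].flatMap fun d =>
    [1, 11].flatMap fun e => [1, 19].map fun f => a * b * c * d * e * f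

theorem mem_divs {k : ℕ} (h : k ∣ 175560) : k ∈ divs := by
  have h1 : ∀ p : ℕ, p.Prime → ∀ k : ℕ, k.gcd p = 1 ∨ k.gcd p = p := fun p hp k =>
    (Nat.dvd_prime hp).1 (Nat.gcd_dvd_right k p)
  have h2 : k.gcd 8 ∈ [1, 2, 4, 8] := by
    obtain ⟨i, hi, he⟩ := (Nat.dvd_prime_pow Nat.prime_two).1
      (show k.gcd 8 ∣ 2 ^ 3 from Nat.gcd_dvd_right k 8)
    interval_cases i <;> simp [he]
  have hk : k = k.gcd 8 * k.gcd 3 * k.gcd 5 * k.gcd 7 * k.gcd 11 * k.gcd 19 := by
    conv_lhs => rw [← Nat.gcd_eq_left h, show (175560 : ℕ) = 8 * 3 * 5 * 7 * 11 * 19 from rfl]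
    rw [Nat.Coprime.gcd_mul _ (by norm_num), Nat.Coprime.gcd_mul _ (by norm_num),
      Nat.Coprime.gcd_mul _ (by norm_num), Nat.Coprime.gcd_mul _ (by norm_num),
      Nat.Coprime.gcd_mul _ (by norm_num)]
  simp only [divs, List.mem_flatMap, List.mem_map]
  refine ⟨_, h2, k.gcd 3, ?_, k.gcd 5, ?_, k.gcd 7, ?_, k.gcd 11, ?_, k.gcd 19, ?_, hk.symm⟩
  · rcases h1 3 (by norm_num) k with h | h <;> simp [h]
  · rcases h1 5 (by norm_num) k with h | h <;> simp [h]
  · rcases h1 7 (by norm_num) k with h | h <;> simp [h]
  · rcases h1 11 (by norm_num) k with h | h <;> simp [h]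
  · rcases h1 19 (by norm_num) k with h | h <;> simp [h]

/-- Two data are compatible. -/
def both (x y : Datum) : Bool := compat divs x y && compat divs y x

/-- The expected data. -/
def expected (a b c d e : Datum) : Bool :=
  a.2.1 == 1540 && b.2.1 == 1596 && c.2.1 == 4180 && d.2.1 == 2926 &&
    (d.2.2 == 3 || d.2.2 == 6) && e.2.1 == 2926 && e.2.2 == 10 &&
    a.2.2 % 4 != 0 && b.2.2 % 4 != 0 && c.2.2 % 4 != 0 &&
    a.2.2 % 3 != 0 && b.2.2 % 3 != 0 && c.2.2 % 3 != 0

/-- All compatible choices of data are either refuted by counting or are the expected ones. -/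
def check : Bool :=
  (opts divs 175560 19).all fun a => (opts divs 175560 11).all fun b => !both a b ||
    (opts divs 175560 7).all fun c => !(both a c && both b c) ||
      (opts divs 175560 5).all fun d => !(both a d && both b d && both c d) ||
        (opts divs 175560 3).all fun e => !(both a e && both b e && both c e && both d e) ||
          counted 175560 [e, d, c, b, a] || expected a b c d e

theorem check_eq : check = true := by decide +kernel

section

variable {G : Type*} [Group G] [Finite G]

theorem card_centralizer {x : Datum} (hx : Real G x) {g : G} (hg : orderOf g = x.1) :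
    Nat.card (centralizer ({g} : Set G)) = x.1 * x.2.2 := by
  obtain ⟨Q, -, hQ⟩ := centralizer_of_orderOf hx hg
  rw [hQ]
  exact (hx.2.2.2 Q).2

theorem card_orderOf {x : Datum} (hx : Real G x) :
    Nat.card {g : G // orderOf g = x.1} = x.2.1 * (x.1 - 1) := by
  haveI : Fact x.1.Prime := ⟨hx.1⟩
  rw [CfsgLib.Simple168.card_orderOf_prime fun Q => (hx.2.2.2 Q).1, hx.2.2.1]

theorem card_normalizer {x : Datum} (hx : Real G x) {g : G} (hg : orderOf g = x.1) :
    x.2.1 * Nat.card (normalizer ((zpowers g : Subgroup G) : Set G)) = Nat.card G := by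
  haveI : Fact x.1.Prime := ⟨hx.1⟩
  obtain ⟨Q, hgQ, -⟩ := centralizer_of_orderOf hx hg
  have hQz : (Q : Subgroup G) = zpowers g :=
    (eq_of_le_of_card_ge (zpowers_le.2 hgQ) (by rw [(hx.2.2.2 Q).1, Nat.card_zpowers, hg])).symm
  have h := CfsgLib.SmallSimple.card_sylow_mul Q
  rw [hx.2.2.1] at h
  rwa [show ((zpowers g : Subgroup G) : Set G) = ((Q : Subgroup G) : Set G) from by rw [hQz]]

/-- A class is contained in the elements of the same order. -/
theorem index_centralizer_le (g : G) :
    (centralizer ({g} : Set G)).index ≤ Nat.card {s : G // orderOf s = orderOf g} := by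
  refine Nat.card_le_card_of_injective
    (fun c : G ⧸ centralizer ({g} : Set G) => (⟨c.out * g * c.out⁻¹, by
      rw [show c.out * g * c.out⁻¹ = MulAut.conj c.out g from rfl, MulEquiv.orderOf_eq]⟩ :
      {s : G // orderOf s = orderOf g})) ?_
  intro a b hab
  have h : a.out * g * a.out⁻¹ = b.out * g * b.out⁻¹ := congrArg Subtype.val hab
  rw [← QuotientGroup.out_eq' a, ← QuotientGroup.out_eq' b, QuotientGroup.eq,
    mem_centralizer_singleton_iff]
  calc a.out⁻¹ * b.out * g = a.out⁻¹ * (b.out * g * b.out⁻¹) * b.out := by group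
    _ = a.out⁻¹ * (a.out * g * a.out⁻¹) * b.out := by rw [h]
    _ = g * (a.out⁻¹ * b.out) := by group

/-- The kinds of elements counted. -/
def mark (o : ℕ) : ℕ :=
  (if o = 19 then 1 else 0) + (if o = 38 then 1 else 0) + (if o = 11 then 1 else 0) +
  (if o = 22 then 1 else 0) + (if o = 7 then 1 else 0) + (if o = 14 then 1 else 0) +
  (if 5 ∣ o then 1 else 0) + (if o = 3 then 1 else 0) + (if o = 6 then 1 else 0) +
  (if o = 4 then 1 else 0) + (if o = 2 then 1 else 0) + (if o = 1 then 1 else 0)

theorem mark_le (o : ℕ) : mark o ≤ 1 := by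
  rcases Nat.lt_or_ge o 39 with h | h
  · revert h; revert o; decide
  · have hne : ∀ k, k < 39 → o ≠ k := fun k hk => by omega
    simp only [mark, hne 19 (by norm_num), hne 38 (by norm_num), hne 11 (by norm_num), hne 22 (by norm_num),
      hne 7 (by norm_num), hne 14 (by norm_num), hne 3 (by norm_num), hne 6 (by norm_num),
      hne 4 (by norm_num), hne 2 (by norm_num), hne 1 (by norm_num), if_false, Nat.zero_add, Nat.add_zero]
    split_ifs <;> norm_num

/-- The elements of the various kinds do not exceed the group. -/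
theorem partition_le :
    Nat.card {g : G // orderOf g = 19} + Nat.card {g : G // orderOf g = 38} +
      Nat.card {g : G // orderOf g = 11} + Nat.card {g : G // orderOf g = 22} +
      Nat.card {g : G // orderOf g = 7} + Nat.card {g : G // orderOf g = 14} +
      Nat.card {g : G // 5 ∣ orderOf g} + Nat.card {g : G // orderOf g = 3} +
      Nat.card {g : G // orderOf g = 6} + Nat.card {g : G // orderOf g = 4} +
      Nat.card {g : G // orderOf g = 2} + 1 ≤ Nat.card G := by
  classical
  haveI := Fintype.ofFinite G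
  have h1 : Nat.card {g : G // orderOf g = 1} = 1 := by
    simp only [orderOf_eq_one_iff]
    rw [Nat.card_eq_fintype_card, Fintype.card_subtype_eq]
  conv_lhs => rw [← h1]
  simp only [Nat.card_eq_fintype_card, Fintype.card_subtype, Finset.card_filter,
    ← Finset.sum_add_distrib]
  rw [← Finset.card_univ, Finset.card_eq_sum_ones]
  exact Finset.sum_le_sum fun g _ => mark_le (orderOf g)

end

end CfsgLib.J1Count
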